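import Cfsg.Agent.Lib.Sporadic.Fi23Solvable.Defs

/-!
The elements of the derived subgroups.
-/

set_option autoImplicit false
set_option maxRecDepth 100000
set_option maxHeartbeats 0

namespace CfsgLib.Sporadic.CosetCert.Fi23P.Sol

theorem level0 : levelAt 0 = true := by decide +kernel
theorem level1 : levelAt 1 = true := by decide +kernel
theorem level2 : levelAt 2 = true := by decide +kernel
theorem level3 : levelAt 3 = true := by decide +kernel
theorem level4 : levelAt 4 = true := by decide +kernel

end CfsgLib.Sporadic.CosetCert.Fi23P.Sol
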