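import Cfsg.Agent.Lib.Sporadic.Fi23Solvable.Defs

/-!
The elements of the derived subgroups.
-/

set_option autoImplicit false
set_option maxRecDepth 100000
set_option maxHeartbeats 0

namespace CfsgLib.Sporadic.CosetCert.Fi23P.Sol

theorem level5 : levelAt 5 = true := by decide +kernel
theorem level6 : levelAt 6 = true := by decide +kernel
theorem level7 : levelAt 7 = true := by decide +kernel
theorem level8 : levelAt 8 = true := by decide +kernel

end CfsgLib.Sporadic.CosetCert.Fi23P.Sol
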