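import Cfsg.Agent.Lib.Sporadic.Fi23Solvable.Defs

/-!
Short checks.
-/

set_option autoImplicit false
set_option maxRecDepth 100000
set_option maxHeartbeats 0

namespace CfsgLib.Sporadic.CosetCert.Fi23P.Sol

theorem uK_ok : uK = true := by decide +kernel
theorem bits_ok : bitsK = true := by decide +kernel
theorem distinct_ok : distinctK = true := by decide +kernel
theorem gens_ok : gensK = true := by decide +kernel
theorem clos0_ok : closK 0 clos0Start clos0Pts clos0Der clos0Half clos0Gen = true := by decide +kernel
theorem clos1_ok : closK 15 clos1Start clos1Pts clos1Der clos1Half clos1Gen = true := by decide +kernel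
theorem root_sig : sigPass 0 = true := by decide +kernel
theorem three_len : threePts.length = 3 := rfl
theorem last_ok : lastK = true := by decide +kernel

end CfsgLib.Sporadic.CosetCert.Fi23P.Sol
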