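import Cfsg.Agent.Lib.Sporadic.Fi23Solvable.Defs

/-!
The second half of the table.
-/

set_option autoImplicit false
set_option maxRecDepth 100000
set_option maxHeartbeats 0

namespace CfsgLib.Sporadic.CosetCert.Fi23P.Sol

theorem tab2 : tabK 162 81 = true := by decide +kernel
theorem tab3 : tabK 243 81 = true := by decide +kernel

end CfsgLib.Sporadic.CosetCert.Fi23P.Sol
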