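import Mathlib

/-!
Permutations of 324 places preserving an operation built from nine components, four blocks in each and the
affine plane of order three in each block: their exponent divides 6912.
-/

set_option autoImplicit false
set_option maxRecDepth 100000

namespace CfsgLib.Sporadic.CosetCert.Fi23P.Sol

/-- The operation `x ∘ y = -(x + y)` of the affine plane of order three, on nine numbers. -/
def op9 (a b : ℕ) : ℕ := 3 * ((6 - a / 3 - b / 3) % 3) + (6 - a % 3 - b % 3) % 3

theorem op9_lt (a b : ℕ) : op9 a b < 9 := by rw [op9]; omega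

theorem op9_self : ∀ a < 9, op9 a a = a := by decide

theorem op9_eq_right : ∀ a < 9, ∀ b < 9, op9 a b = b → a = b := by decide

/-- The only extension of a choice of images of three independent points. -/
def ext9 (a b c : ℕ) : List ℕ :=
  let x4 := op9 (op9 a b) (op9 a c)
  [a, b, op9 a b, c, x4, op9 c x4, op9 a c, op9 b x4, op9 b c]

/-- An automorphism of the affine plane of order three has order dividing 24. -/
def autTest (a b c : ℕ) : Bool :=
  let L := ext9 a b c
  !(decide L.Nodup && (List.range 9).all fun x => (List.range 9).all fun y =>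
      L.getD (op9 x y) 9 == op9 (L.getD x 9) (L.getD y 9)) ||
    (List.range 9).all fun x => (List.replicate 24 ()).foldl (fun v _ => L.getD v 9) x == x

theorem autTest_all : ∀ a < 9, ∀ b < 9, ∀ c < 9, autTest a b c = true := by decide +kernel

theorem foldl_replicate {α : Type*} (F : α → α) (n : ℕ) (x : α) :
    (List.replicate n ()).foldl (fun v _ => F v) x = F^[n] x := by
  induction n generalizing x with
  | zero => rfl
  | succ n ih => rw [List.replicate_succ, List.foldl_cons, ih, Function.iterate_succ_apply]

theorem iterate_op_auto {f : Fin 9 → Fin 9} (hinj : Function.Injective f)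
    (hop : ∀ x y : Fin 9, (f ⟨op9 x y, op9_lt x y⟩ : ℕ) = op9 (f x) (f y)) : f^[24] = id := by
  set L := ext9 (f 0 : ℕ) (f 1 : ℕ) (f 3 : ℕ) with hL
  have h2 : (f 2 : ℕ) = op9 (f 0) (f 1) := by rw [← hop]; congr 2
  have h6 : (f 6 : ℕ) = op9 (f 0) (f 3) := by rw [← hop]; congr 2
  have h8 : (f 8 : ℕ) = op9 (f 1) (f 3) := by rw [← hop]; congr 2
  have h4 : (f 4 : ℕ) = op9 (f 2) (f 6) := by rw [← hop]; congr 2
  have h5 : (f 5 : ℕ) = op9 (f 3) (f 4) := by rw [← hop]; congr 2
  have h7 : (f 7 : ℕ) = op9 (f 1) (f 4) := by rw [← hop]; congr 2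
  have hget : ∀ x : Fin 9, L.getD x 9 = (f x : ℕ) := by
    intro x
    fin_cases x <;> simp [hL, ext9, h2, h6, h8, h4, h5, h7]
  have hlist : L = List.ofFn fun x => (f x : ℕ) := by
    refine List.ext_getElem (by simp [hL, ext9]) fun i h1 h2 => ?_
    have hi : i < 9 := by simpa [hL, ext9] using h1
    rw [List.getElem_ofFn, ← List.getD_eq_getElem L 9 h1]
    exact hget ⟨i, hi⟩
  have hnd : L.Nodup := by
    rw [hlist, List.nodup_ofFn]
    exact fun x y e => hinj (Fin.ext e)
  have hall : ((List.range 9).all fun x => (List.range 9).all fun y =>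
      L.getD (op9 x y) 9 == op9 (L.getD x 9) (L.getD y 9)) = true := by
    refine List.all_eq_true.2 fun x hx => List.all_eq_true.2 fun y hy => beq_iff_eq.2 ?_
    obtain ⟨x, rfl⟩ : ∃ x' : Fin 9, (x' : ℕ) = x := ⟨⟨x, List.mem_range.1 hx⟩, rfl⟩
    obtain ⟨y, rfl⟩ : ∃ y' : Fin 9, (y' : ℕ) = y := ⟨⟨y, List.mem_range.1 hy⟩, rfl⟩
    have := hget ⟨op9 x y, op9_lt x y⟩
    rw [hop] at this
    rw [hget, hget]
    exact this
  have h := autTest_all (f 0 : ℕ) (f 0).2 (f 1 : ℕ) (f 1).2 (f 3 : ℕ) (f 3).2
  rw [autTest, ← hL, hall, decide_eq_true hnd] at h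
  simp only [Bool.and_self, Bool.not_true, Bool.false_or, List.all_eq_true, List.mem_range,
    beq_iff_eq, foldl_replicate] at h
  funext x
  refine Fin.ext ?_
  have hit : ∀ n, ((f^[n] x : Fin 9) : ℕ) = (fun v => L.getD v 9)^[n] x := by
    intro n
    induction n with
    | zero => rfl
    | succ n ih => rw [Function.iterate_succ_apply', Function.iterate_succ_apply', ← ih, hget]
  rw [hit]
  exact h x x.2

theorem iterate_four : ∀ f : Fin 4 → Fin 4, Function.Injective f → f^[12] = id := by
  decide +kernel

/-- The component of a place. -/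
def comp (i : ℕ) : ℕ := i / 36

/-- The block of a place within its component. -/
def block (i : ℕ) : ℕ := i % 36 / 9

/-- The facts about the operation on places. -/
structure Plan (T : Fin 324 → Fin 324 → Fin 324) : Prop where
  comp_op : ∀ i j : Fin 324, comp (T i j) = op9 (comp i) (comp j)
  same : ∀ i j : Fin 324, comp i = comp j →
    (T i j : ℕ) = if block i = block j then 36 * comp i + 9 * block i + op9 (i % 9) (j % 9) else j

variable {T : Fin 324 → Fin 324 → Fin 324}

theorem Plan.self (hT : Plan T) (i : Fin 324) : T i i = i := by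
  refine Fin.ext ?_
  rw [hT.same i i rfl, if_pos rfl, op9_self _ (Nat.mod_lt _ (by norm_num))]
  simp only [comp, block]
  omega

theorem Plan.right (hT : Plan T) {i j : Fin 324} (hc : comp i = comp j) :
    T i j = j ↔ i = j ∨ block i ≠ block j := by
  have h := hT.same i j hc
  constructor
  · intro e
    by_cases hb : block i = block j
    · rw [if_pos hb, e] at h
      left
      refine Fin.ext ?_
      have := op9_eq_right (i % 9 : ℕ) (Nat.mod_lt _ (by norm_num)) (j % 9 : ℕ) (Nat.mod_lt _ (by norm_num))
        (by simp only [comp, block] at h hc hb ⊢; omega)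
      simp only [comp, block] at hc hb
      omega
    · exact Or.inr hb
  · rintro (rfl | hb)
    · exact hT.self i
    · exact Fin.ext (by rw [h, if_neg hb])

theorem Plan.comp_eq (hT : Plan T) {i k : Fin 324} (h : T i k = k) : comp i = comp k := by
  have h1 := hT.comp_op i k
  rw [h] at h1
  exact op9_eq_right _ (by have := i.2; simp only [comp]; omega) _ (by have := k.2; simp only [comp]; omega) h1.symm

theorem Plan.step (hT : Plan T) {i j : Fin 324} (hc : comp i = comp j) : ∃ k, T i k = k ∧ T k j = j := by
  by_cases hb : block i = block j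
  · have hi := i.2
    refine ⟨⟨36 * comp i + 9 * ((block i + 1) % 4), by simp only [comp, block]; omega⟩, ?_, ?_⟩
    · refine (hT.right ?_).2 (Or.inr ?_) <;> simp only [comp, block] <;> omega
    · refine (hT.right ?_).2 (Or.inr ?_) <;> simp only [comp, block] at hc hb ⊢ <;> omega
  · exact ⟨i, hT.self i, (hT.right hc).2 (Or.inr hb)⟩

theorem Plan.map_comp (hT : Plan T) {f : Fin 324 → Fin 324} (hf : ∀ i j, f (T i j) = T (f i) (f j))
    {i j : Fin 324} (hc : comp i = comp j) : comp (f i) = comp (f j) := by
  obtain ⟨k, h1, h2⟩ := hT.step hc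
  exact (hT.comp_eq (by rw [← hf, h1] : T (f i) (f k) = f k)).trans
    (hT.comp_eq (by rw [← hf, h2] : T (f k) (f j) = f j))

theorem iterate_hom {f : Fin 324 → Fin 324} (hf : ∀ i j, f (T i j) = T (f i) (f j)) (n : ℕ) :
    ∀ i j, f^[n] (T i j) = T (f^[n] i) (f^[n] j) := by
  induction n with
  | zero => exact fun i j => rfl
  | succ n ih => exact fun i j => by simp only [Function.iterate_succ_apply', ih, hf]

theorem Plan.iterate_eq (hT : Plan T) {f : Fin 324 → Fin 324} (hinj : Function.Injective f)
    (hf : ∀ i j, f (T i j) = T (f i) (f j)) : f^[6912] = id := by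
  have hsur : Function.Surjective f := Finite.injective_iff_surjective.1 hinj
  have hc9 : ∀ i : Fin 324, comp i < 9 := fun i => by have := i.2; simp only [comp]; omega
  -- on components
  let rep : Fin 9 → Fin 324 := fun c => ⟨36 * c, by omega⟩
  let fc : Fin 9 → Fin 9 := fun c => ⟨comp (f (rep c)), hc9 _⟩
  have hrep : ∀ c, comp (rep c) = (c : ℕ) := fun c => by simp only [rep, comp]; omega
  have hfc : ∀ i : Fin 324, comp (f i) = (fc ⟨comp i, hc9 i⟩ : ℕ) := fun i =>
    hT.map_comp hf (hrep ⟨comp i, hc9 i⟩).symm
  have hfcinj : Function.Injective fc := by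
    refine Finite.injective_iff_surjective.2 fun c => ?_
    obtain ⟨i, hi⟩ := hsur (rep c)
    exact ⟨⟨comp i, hc9 i⟩, Fin.ext (by rw [← hfc, hi, hrep])⟩
  have hfcop : ∀ x y : Fin 9, (fc ⟨op9 x y, op9_lt x y⟩ : ℕ) = op9 (fc x) (fc y) := by
    intro x y
    have h := hT.comp_op (f (rep x)) (f (rep y))
    rw [← hf, hfc] at h
    refine Eq.trans ?_ h
    congr 2
    exact Fin.ext (by show op9 x y = comp (T (rep x) (rep y)); rw [hT.comp_op, hrep, hrep])
  have h24 := iterate_op_auto hfcinj hfcop
  set g := f^[24] with hg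
  have hgf := iterate_hom hf 24
  rw [← hg] at hgf
  have hginj : Function.Injective g := hinj.iterate 24
  have hgc : ∀ i, comp (g i) = comp i := by
    intro i
    have : ∀ n, comp (f^[n] i) = (fc^[n] ⟨comp i, hc9 i⟩ : Fin 9) := by
      intro n
      induction n with
      | zero => rfl
      | succ n ih =>
        rw [Function.iterate_succ_apply', Function.iterate_succ_apply', hfc]
        congr 2
        exact Fin.ext ih
    rw [hg, this, h24]
    rfl
  -- on blocks
  have hgb : ∀ i j : Fin 324, comp i = comp j → block i = block j → block (g i) = block (g j) := by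
    intro i j hc hb
    rcases eq_or_ne i j with rfl | hne
    · rfl
    by_contra h
    have h1 : T (g i) (g j) = g j := (hT.right (by rw [hgc, hgc, hc])).2 (Or.inr h)
    rw [← hgf] at h1
    rcases (hT.right hc).1 (hginj h1) with h2 | h2
    · exact hne h2
    · exact h2 hb
  have hb4 : ∀ i : Fin 324, block i < 4 := fun i => by simp only [block]; omega
  set k := g^[12] with hk
  have hkf := iterate_hom hgf 12
  rw [← hk] at hkf
  have hkinj : Function.Injective k := hginj.iterate 12
  have hkc : ∀ n i, comp (g^[n] i) = comp i := by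
    intro n
    induction n with
    | zero => exact fun i => rfl
    | succ n ih => exact fun i => by rw [Function.iterate_succ_apply', hgc, ih]
  have hkb : ∀ i, block (k i) = block i := by
    intro i
    let fb : Fin 4 → Fin 4 := fun b => ⟨block (g ⟨36 * comp i + 9 * b, by have := hc9 i; omega⟩), hb4 _⟩
    have hstep : ∀ j : Fin 324, comp j = comp i → block (g j) = (fb ⟨block j, hb4 j⟩ : ℕ) := by
      intro j hj
      refine hgb j _ ?_ ?_ <;> simp only [comp, block] at hj ⊢ <;> have := j.2 <;> omega
    have hfbinj : Function.Injective fb := by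
      refine Finite.injective_iff_surjective.2 fun b => ?_
      have hi := hc9 i
      obtain ⟨j, hj⟩ := (Finite.injective_iff_surjective.1 hginj) ⟨36 * comp i + 9 * b, by omega⟩
      have hjc : comp j = comp i := by rw [← hgc j, hj]; simp only [comp]; omega
      exact ⟨⟨block j, hb4 j⟩, Fin.ext (by rw [← hstep j hjc, hj]; simp only [block, comp]; omega)⟩
    have : ∀ n, block (g^[n] i) = (fb^[n] ⟨block i, hb4 i⟩ : Fin 4) := by
      intro n
      induction n with
      | zero => rfl
      | succ n ih =>
        rw [Function.iterate_succ_apply', Function.iterate_succ_apply', hstep _ (hkc n i)]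
        congr 2
        exact Fin.ext ih
    rw [hk, this, iterate_four fb hfbinj]
    rfl
  -- within a block
  have hfix : ∀ i : Fin 324, k^[24] i = i := by
    intro i
    have hi := hc9 i
    have hbi := hb4 i
    let mk : Fin 9 → Fin 324 := fun x => ⟨36 * comp i + 9 * block i + x, by omega⟩
    let fx : Fin 9 → Fin 9 := fun x => ⟨(k (mk x) : ℕ) % 9, Nat.mod_lt _ (by norm_num)⟩
    have hmk : ∀ x, comp (mk x) = comp i ∧ block (mk x) = block i ∧ (mk x : ℕ) % 9 = x := fun x => by
      simp only [mk, comp, block]; omega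
    have hkm : ∀ x, k (mk x) = mk (fx x) := by
      intro x
      have h1 : comp (k (mk x)) = comp i := (hkc 12 _).trans (hmk x).1
      have h2 : block (k (mk x)) = block i := (hkb _).trans (hmk x).2.1
      have h3 := (k (mk x)).2
      refine Fin.ext ?_
      simp only [fx, mk, comp, block] at h1 h2 h3 ⊢
      omega
    have hfxinj : Function.Injective fx := by
      intro x y e
      have h := hkinj ((hkm x).trans ((congrArg mk e).trans (hkm y).symm))
      refine Fin.ext ?_
      rw [← (hmk x).2.2, ← (hmk y).2.2, h]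
    have hTm : ∀ x y : Fin 9, T (mk x) (mk y) = mk ⟨op9 x y, op9_lt x y⟩ := by
      intro x y
      refine Fin.ext ?_
      rw [hT.same _ _ ((hmk x).1.trans (hmk y).1.symm), if_pos ((hmk x).2.1.trans (hmk y).2.1.symm),
        (hmk x).1, (hmk x).2.1, (hmk x).2.2, (hmk y).2.2]
    have hfxop : ∀ x y : Fin 9, (fx ⟨op9 x y, op9_lt x y⟩ : ℕ) = op9 (fx x) (fx y) := by
      intro x y
      have h := hkf (mk x) (mk y)
      rw [hTm, hkm, hkm, hkm, hTm] at h
      rw [← (hmk (fx _)).2.2, h, (hmk _).2.2]
    have hi0 : mk ⟨i % 9, Nat.mod_lt _ (by norm_num)⟩ = i :=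
      Fin.ext (by simp only [mk, comp, block]; omega)
    have : ∀ n, k^[n] i = mk (fx^[n] ⟨i % 9, Nat.mod_lt _ (by norm_num)⟩) := by
      intro n
      induction n with
      | zero => exact hi0.symm
      | succ n ih => rw [Function.iterate_succ_apply', ih, hkm, ← Function.iterate_succ_apply' fx]
    rw [this, iterate_op_auto hfxinj hfxop]
    exact hi0
  funext i
  have h := hfix i
  rw [hk, ← Function.iterate_mul, hg, ← Function.iterate_mul] at h
  exact h

end CfsgLib.Sporadic.CosetCert.Fi23P.Sol
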