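import Cfsg.Agent.Lib.Sporadic.Fi23Solvable.Data
import Cfsg.Agent.Lib.Sporadic.Fi23Solvable.Quandle
import Cfsg.Agent.Lib.Sporadic.Fi23Out.Checks

/-!
Checks for the stabiliser of 324 transpositions of Fi23.
-/

set_option autoImplicit false

namespace CfsgLib.Sporadic.CosetCert.Fi23P.Sol

open Fi23Data (table fastRows)
open Two (genPts)
open OutFi (fullWord halfK rowsOf)

/-- The point in a given place. -/
noncomputable def uAt (i : ℕ) : ℕ := Nat.mod (Nat.shiftRight uPack (Nat.mul 16 i)) 65536

/-- The word of the transposition in a given place. -/
def uWord (i : ℕ) : List ℕ := fullWord (uHalf.getD i ([], 0))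

/-- The words of the transpositions are right and the points are in their sets. -/
noncomputable def uK : Bool :=
  (List.range 324).all fun i => halfK (uAt i) (uHalf.getD i ([], 0)) && Nat.blt (uAt i) 31671

/-- The bits of the sets are just the points. -/
noncomputable def bitsK : Bool :=
  Nat.beq uBits ((List.range 324).foldr (fun i acc => Nat.lor (Nat.shiftLeft 1 (uAt i)) acc) 0) &&
    (List.range 9).all fun c => Nat.beq (compMasks.getD c 0)
      ((List.range 36).foldr (fun k acc => Nat.lor (Nat.shiftLeft 1 (uAt (36 * c + k))) acc) 0)

/-- The points in different places are different. -/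
noncomputable def distinctK : Bool :=
  (List.range 324).all fun i => (List.range i).all fun j => !(Nat.beq (uAt i) (uAt j))

/-- The transposition in one place moves the points as the operation says. -/
noncomputable def tabRow (i : ℕ) : Bool :=
  let w := rowsOf (uWord i)
  (List.range 324).all fun j =>
    let v := PTab.runL w (uAt j)
    bif Nat.beq (i / 36) (j / 36) then
      Nat.beq v (uAt (bif Nat.beq (i % 36 / 9) (j % 36 / 9) then
        36 * (i / 36) + 9 * (i % 36 / 9) + op9 (i % 9) (j % 9) else j))
    else Nat.testBit (compMasks.getD (op9 (i / 36) (j / 36)) 0) v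

/-- Consecutive rows of the table. -/
noncomputable def tabK (s n : ℕ) : Bool := (List.range n).all fun i => tabRow (s + i)

/-- The words preserve the 324 points. -/
noncomputable def gensK : Bool :=
  gensW.all fun w => w.all (fun x => Nat.blt x 10) &&
    (List.range 324).all fun i => Nat.testBit uBits (PTab.runL (rowsOf w) (uAt i))

/-- The rank of a point in the forest. -/
noncomputable def fRank (v : ℕ) : ℕ := Nat.mod (Nat.shiftRight (forestU.get 31 v) 4) 256

/-- One point of the forest checks. -/
noncomputable def forestPt (v : ℕ) : Bool :=
  Nat.testBit uBits v ||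
    bif Nat.beq (fRank v) 0 then rootPts.contains v
    else
      let e := forestU.get 31 v
      let p := Nat.shiftRight e 16
      Nat.blt (fRank p) (fRank v) &&
        Nat.blt (Nat.mod (Nat.shiftRight e 12) 16) gensW.length &&
        Nat.beq (PTab.runL (rowsOf (gensW.getD (Nat.mod (Nat.shiftRight e 12) 16) [])) v) p

/-- Consecutive points of the forest check. -/
noncomputable def forestK (s n : ℕ) : Bool := (List.range n).all fun i => forestPt (s + i)

/-- A derivation of the points of the generators from the base and images of a representative. -/
noncomputable def closK (r start : ℕ) (pts : List ℕ) (der : List (ℕ × ℕ)) (half : List (List ℕ × ℕ))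
    (ix : List ℕ) : Bool :=
  Nat.blt r 31671 &&
    (List.range 5).all (fun i => Nat.blt (baseIx.getD i 324) 324 &&
      Nat.beq (pts.getD i 31671) (uAt (baseIx.getD i 324))) &&
    (List.range (start - 5)).all (fun i => Nat.beq (pts.getD (5 + i) 31671) r ||
      gensW.any fun w => Nat.beq (table.imgW w r) (pts.getD (5 + i) 31671)) &&
    (List.range der.length).all (fun m =>
      let d := der.getD m (0, 0)
      Nat.blt d.1 (start + m) && Nat.blt d.2 (start + m) &&
        halfK (pts.getD d.1 31671) (half.getD d.1 ([], 0)) &&
          Nat.beq (table.imgW (fullWord (half.getD d.1 ([], 0))) (pts.getD d.2 31671))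
            (pts.getD (start + m) 31671)) &&
    (List.range 10).all fun x => Nat.blt (ix.getD x (start + der.length)) (start + der.length) &&
      Nat.beq (pts.getD (ix.getD x (start + der.length)) 31671) (genPts.getD x 31671)

/-- The chosen transpositions fix a point. -/
noncomputable def sigPass (v : ℕ) : Bool := sigIx.all fun s => Nat.beq (PTab.runL (rowsOf (uWord s)) v) v

/-- Only three points are fixed by the chosen transpositions. -/
noncomputable def sigK (s n : ℕ) : Bool :=
  (List.range n).all fun i => !(sigPass (s + i)) || threePts.contains (s + i)

/-- Two words agree on the points of the generators. -/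
noncomputable def sameW (A B : List ℕ) : Bool :=
  genPts.all fun p => Nat.beq (PTab.runL (rowsOf A) p) (PTab.runL (rowsOf B) p)

/-- Elements of one derived subgroup come from those of the previous one. -/
noncomputable def levelK (prev : List (List ℕ)) (cur : List (List ℕ × Bool × ℕ × ℕ)) : Bool :=
  (List.range cur.length).all fun m =>
    let e := cur.getD m ([], false, 0, 0)
    e.1.all (fun x => Nat.blt x 10) &&
      bif e.2.1 then
        Nat.blt e.2.2.1 m && Nat.blt e.2.2.2 gensW.length &&
          sameW ((gensW.getD e.2.2.2 []).reverse ++ (cur.getD e.2.2.1 ([], false, 0, 0)).1 ++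
            gensW.getD e.2.2.2 []) e.1
      else
        Nat.blt e.2.2.1 prev.length && Nat.blt e.2.2.2 prev.length &&
          sameW ((prev.getD e.2.2.1 []).reverse ++ (prev.getD e.2.2.2 []).reverse ++
            prev.getD e.2.2.1 [] ++ prev.getD e.2.2.2 []) e.1

/-- The words of a level. -/
def levelWords (cur : List (List ℕ × Bool × ℕ × ℕ)) : List (List ℕ) := cur.map (·.1)

/-- One level checks. -/
noncomputable def levelAt (k : ℕ) : Bool :=
  levelK (bif Nat.beq k 0 then gensW else levelWords (derLevels.getD (k - 1) [])) (derLevels.getD k [])

/-- An element of the last level is not trivial. -/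
noncomputable def lastK : Bool :=
  Nat.beq derLevels.length 9 &&
    match derLevels.getD 8 [] with
    | [] => false
    | e :: _ => genPts.any fun p => !(Nat.beq (table.imgW e.1 p) p)

end CfsgLib.Sporadic.CosetCert.Fi23P.Sol
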