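import Cfsg.Agent.Lib.Sporadic.Fi23Out.Inj
import Cfsg.Agent.Lib.Sporadic.Fi23Solvable.CheckSmall
import Cfsg.Agent.Lib.Sporadic.Fi23Solvable.CheckLevelsA
import Cfsg.Agent.Lib.Sporadic.Fi23Solvable.CheckLevelsB
import Cfsg.Agent.Lib.Sporadic.Fi23Solvable.CheckTabA
import Cfsg.Agent.Lib.Sporadic.Fi23Solvable.CheckTabB
import Cfsg.Agent.Lib.Sporadic.Fi23Solvable.CheckForestA
import Cfsg.Agent.Lib.Sporadic.Fi23Solvable.CheckForestB
import Cfsg.Agent.Lib.Sporadic.Fi23Solvable.CheckSig
import Cfsg.Agent.S0144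

/-!
The stabiliser of the 324 transpositions is a soluble maximal subgroup of Fi23 whose ninth derived subgroup
is not trivial.
-/

set_option autoImplicit false
set_option maxRecDepth 100000

open Cfsg.Spor
open scoped commutatorElement

namespace CfsgLib.Sporadic.CosetCert.Fi23P.Sol

open Fi23Data (table forestH fastRows)
open Two (el el_img el_append el_nil el_reverse dp conj_dp comm_of_fix gen_eq_dp gpt gpt_val genPts
  eq_one_of_fix eq_of_sameK)
open OutFi (fullWord fullWord_lt halfK rowsOf dp_of_half hom_inv_apply)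

attribute [local irreducible] PTab.img Forest.cls

theorem blt_iff {a b : ℕ} : Nat.blt a b = true ↔ a < b := by rw [Nat.blt_eq]

theorem runL_word {w : List ℕ} (hw : ∀ x ∈ w, x < 10) (u : Fin table.N) :
    PTab.runL (rowsOf w) u = ((hom (el w) u : Fin table.N) : ℕ) := by
  rw [el_img hw]
  exact ((Fi23Data.imgW_fast w (List.all_eq_true.2 fun x hx => blt_iff.2 (hw x hx)) u u.2).1).symm

theorem N_eq : table.N = 31671 := rfl

theorem uK_spec (i : Fin 324) : halfK (uAt i) (uHalf.getD i ([], 0)) = true ∧ uAt i < table.N := by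
  have h := List.all_eq_true.1 uK_ok i (List.mem_range.2 i.2)
  rw [Bool.and_eq_true] at h
  exact ⟨h.1, by rw [N_eq]; exact blt_iff.1 h.2⟩

/-- The point in a place. -/
noncomputable def uu (i : Fin 324) : Fin table.N := ⟨uAt i, (uK_spec i).2⟩

theorem uu_inj : Function.Injective uu := by
  intro a b h
  have h' : uAt a = uAt b := congrArg Fin.val h
  by_contra hne
  rcases lt_or_gt_of_ne (fun e => hne (Fin.ext e)) with hlt | hlt
  · have := List.all_eq_true.1 (List.all_eq_true.1 distinct_ok b (List.mem_range.2 b.2)) a (List.mem_range.2 hlt)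
    rw [Nat.beq_eq.mpr h'.symm] at this
    exact Bool.false_ne_true this
  · have := List.all_eq_true.1 (List.all_eq_true.1 distinct_ok a (List.mem_range.2 a.2)) b (List.mem_range.2 hlt)
    rw [Nat.beq_eq.mpr h'] at this
    exact Bool.false_ne_true this

theorem uWord_lt (i : Fin 324) : ∀ x ∈ uWord i, x < 10 := fullWord_lt (uK_spec i).1

theorem dp_uu (i : Fin 324) : dp (uu i) = el (uWord i) := dp_of_half (p := uu i) (uK_spec i).1

theorem testBit_foldr (f : ℕ → ℕ) (v : ℕ) (L : List ℕ) :
    Nat.testBit (L.foldr (fun i acc => Nat.lor (Nat.shiftLeft 1 (f i)) acc) 0) v = true ↔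
      ∃ i ∈ L, f i = v := by
  induction L with
  | nil => simp
  | cons a t ih =>
    rw [List.foldr_cons, show Nat.lor (Nat.shiftLeft 1 (f a))
        (t.foldr (fun i acc => Nat.lor (Nat.shiftLeft 1 (f i)) acc) 0) =
      (1 <<< f a) ||| t.foldr (fun i acc => Nat.lor (Nat.shiftLeft 1 (f i)) acc) 0 from rfl,
      Nat.testBit_lor, Bool.or_eq_true, ih, Nat.one_shiftLeft, Nat.testBit_two_pow]
    simp

theorem mem_bits {v : ℕ} : Nat.testBit uBits v = true ↔ ∃ i : Fin 324, uAt i = v := by
  have h := (Bool.and_eq_true _ _ |>.mp bits_ok).1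
  rw [Nat.eq_of_beq_eq_true h, testBit_foldr]
  constructor
  · rintro ⟨i, hi, e⟩; exact ⟨⟨i, List.mem_range.1 hi⟩, e⟩
  · rintro ⟨i, e⟩; exact ⟨i, List.mem_range.2 i.2, e⟩

theorem mem_mask {c v : ℕ} (hc : c < 9) (h : Nat.testBit (compMasks.getD c 0) v = true) :
    ∃ i : Fin 324, uAt i = v ∧ comp i = c := by
  have hb := List.all_eq_true.1 (Bool.and_eq_true _ _ |>.mp bits_ok).2 c (List.mem_range.2 hc)
  rw [Nat.eq_of_beq_eq_true hb, testBit_foldr] at h
  obtain ⟨k, hk, e⟩ := h
  have hk' := List.mem_range.1 hk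
  exact ⟨⟨36 * c + k, by omega⟩, e, by simp only [comp]; omega⟩

theorem tabRow_ok (i : Fin 324) : tabRow i = true := by
  have key : ∀ {s n : ℕ}, tabK s n = true → s ≤ i.1 → i.1 < s + n → tabRow i = true := by
    intro s n h h1 h2
    have := List.all_eq_true.1 h (i.1 - s) (List.mem_range.2 (by omega))
    rwa [show s + (i.1 - s) = i.1 by omega] at this
  have := i.2
  rcases lt_or_ge i.1 81 with h1 | h1
  · exact key tab0 (Nat.zero_le _) (by omega)
  rcases lt_or_ge i.1 162 with h2 | h2
  · exact key tab1 h1 (by omega)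
  rcases lt_or_ge i.1 243 with h3 | h3
  · exact key tab2 h2 (by omega)
  exact key tab3 h3 (by omega)

/-- The expected place of an image within a component. -/
def inComp (i j : Fin 324) : ℕ :=
  if block i = block j then 36 * comp i + 9 * block i + op9 (i % 9) (j % 9) else j

theorem inComp_lt (i j : Fin 324) : inComp i j < 324 := by
  have h1 := i.2
  have h2 := j.2
  have h3 := op9_lt (i % 9) (j % 9)
  rw [inComp]
  split_ifs <;> simp only [comp, block] at * <;> omega

theorem tab_spec (i j : Fin 324) :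
    ∃ k : Fin 324, hom (dp (uu i)) (uu j) = uu k ∧ comp k = op9 (comp i) (comp j) ∧
      (comp i = comp j → (k : ℕ) = inComp i j) := by
  have h := List.all_eq_true.1 (tabRow_ok i) j (List.mem_range.2 j.2)
  have hv : PTab.runL (rowsOf (uWord i)) (uAt j) = ((hom (dp (uu i)) (uu j) : Fin table.N) : ℕ) := by
    rw [dp_uu]; exact runL_word (uWord_lt i) (uu j)
  simp only [hv] at h
  have hi := i.2
  have hj := j.2
  have hlt : comp i < 9 := by simp only [comp]; omega
  by_cases hc : comp i = comp j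
  · have hc' : (i : ℕ) / 36 = (j : ℕ) / 36 := hc
    rw [Nat.beq_eq.mpr hc', cond_true] at h
    have he : hom (dp (uu i)) (uu j) = uu ⟨inComp i j, inComp_lt i j⟩ := by
      refine Fin.ext ((Nat.eq_of_beq_eq_true h).trans (congrArg uAt ?_))
      show _ = inComp i j
      rw [inComp]
      by_cases hb : block i = block j
      · rw [if_pos hb, Nat.beq_eq.mpr (show (i : ℕ) % 36 / 9 = (j : ℕ) % 36 / 9 from hb), cond_true]
        rfl
      · have hb' : ¬ (i : ℕ) % 36 / 9 = (j : ℕ) % 36 / 9 := hb
        rw [if_neg hb, Bool.eq_false_iff.2 (fun e => hb' (Nat.eq_of_beq_eq_true e)), cond_false]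
    refine ⟨_, he, ?_, fun _ => rfl⟩
    rw [← hc, op9_self _ hlt]
    have h3 := op9_lt ((i : ℕ) % 9) ((j : ℕ) % 9)
    show comp (inComp i j) = _
    rw [inComp]
    split_ifs <;> simp only [comp, block] at * <;> omega
  · have hc' : ¬ (i : ℕ) / 36 = (j : ℕ) / 36 := hc
    rw [Bool.eq_false_iff.2 (fun e => hc' (Nat.eq_of_beq_eq_true e)), cond_false] at h
    obtain ⟨k, hk, hkc⟩ := mem_mask (op9_lt _ _) h
    exact ⟨k, Fin.ext hk.symm, hkc, fun e => absurd e hc⟩

/-- The operation on places. -/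
noncomputable def TT (i j : Fin 324) : Fin 324 := (tab_spec i j).choose

theorem TT_spec (i j : Fin 324) : hom (dp (uu i)) (uu j) = uu (TT i j) := (tab_spec i j).choose_spec.1

theorem plan : Plan TT where
  comp_op i j := (tab_spec i j).choose_spec.2.1
  same i j hc := (tab_spec i j).choose_spec.2.2 hc

/-- The stabiliser of the 324 points. -/
noncomputable def Hs : Subgroup Fi23 where
  carrier := {g | ∀ i, ∃ j, hom g (uu i) = uu j}
  one_mem' i := ⟨i, by rw [map_one, Equiv.Perm.one_apply]⟩
  mul_mem' {a b} ha hb i := by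
    obtain ⟨j, hj⟩ := hb i
    obtain ⟨k, hk⟩ := ha j
    exact ⟨k, by rw [map_mul, Equiv.Perm.mul_apply, hj, hk]⟩
  inv_mem' {g} hg i := by
    choose f hf using hg
    have hinj : Function.Injective f := fun a b e =>
      uu_inj ((hom g).injective (by rw [hf, hf, e]))
    obtain ⟨j, hj⟩ := Finite.injective_iff_surjective.1 hinj i
    exact ⟨j, by rw [← hj, ← hf, hom_inv_apply]⟩

theorem dp_uu_mem (i : Fin 324) : dp (uu i) ∈ Hs := fun j => ⟨TT i j, TT_spec i j⟩

theorem gens_lt {w : List ℕ} (hw : w ∈ gensW) : ∀ x ∈ w, x < 10 := fun x hx => by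
  have h := List.all_eq_true.1 gens_ok w hw
  rw [Bool.and_eq_true] at h
  exact blt_iff.1 (List.all_eq_true.1 h.1 x hx)

theorem gens_mem {w : List ℕ} (hw : w ∈ gensW) : el w ∈ Hs := fun i => by
  have h := List.all_eq_true.1 gens_ok w hw
  rw [Bool.and_eq_true] at h
  have h2 := List.all_eq_true.1 h.2 i (List.mem_range.2 i.2)
  rw [show PTab.runL (rowsOf w) (uAt i) = ((hom (el w) (uu i) : Fin table.N) : ℕ) from
    runL_word (gens_lt hw) (uu i)] at h2
  obtain ⟨j, hj⟩ := mem_bits.1 h2
  exact ⟨j, Fin.ext hj.symm⟩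

/-- The derivation of the points of the generators. -/
theorem clos_spec {r start : ℕ} {pts : List ℕ} {der : List (ℕ × ℕ)} {half : List (List ℕ × ℕ)} {ix : List ℕ}
    (h : closK r start pts der half ix = true)
    (hlt : (List.range (start + der.length)).all (fun i => Nat.blt (pts.getD i 31671) 31671) = true)
    (hr : r < table.N)
    (P : Fin table.N → Prop) (hP : ∀ a b, P a → P b → P (hom (dp a) b)) (hu : ∀ i, P (uu i))
    (h0 : P ⟨r, hr⟩) (hg : ∀ w ∈ gensW, P (hom (el w) ⟨r, hr⟩)) :
    ∀ x < 10, P (gpt x) := by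
  simp only [closK, Bool.and_eq_true, List.all_eq_true, List.mem_range, Nat.blt_eq] at h
  obtain ⟨⟨⟨⟨-, hbase⟩, hstart⟩, hder⟩, hix⟩ := h
  have hpts : ∀ i < start + der.length, ∀ p : Fin table.N, (p : ℕ) = pts.getD i 31671 → P p := by
    intro i
    induction i using Nat.strong_induction_on with
    | _ i ih =>
      intro hi p hp
      rcases lt_or_ge i 5 with h5 | h5
      · obtain ⟨hb, he⟩ := hbase i h5
        rw [show p = uu ⟨baseIx.getD i 324, hb⟩ from Fin.ext (hp.trans (Nat.eq_of_beq_eq_true he))]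
        exact hu _
      rcases lt_or_ge i start with h6 | h6
      · have hm := hstart (i - 5) (by omega)
        rw [show 5 + (i - 5) = i by omega, Bool.or_eq_true, List.any_eq_true] at hm
        rcases hm with hm | ⟨w, hw, hm⟩
        · rw [show p = ⟨r, hr⟩ from Fin.ext (hp.trans (Nat.eq_of_beq_eq_true hm))]
          exact h0
        · rw [show p = hom (el w) ⟨r, hr⟩ from Fin.ext (by
            rw [el_img (gens_lt hw)]; exact hp.trans (Nat.eq_of_beq_eq_true hm).symm)]
          exact hg w hw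
      obtain ⟨⟨⟨ha, hb⟩, hh⟩, he⟩ := hder (i - start) (by omega)
      rw [show start + (i - start) = i by omega] at ha hb he
      simp only [List.all_eq_true, List.mem_range, Nat.blt_eq] at hlt
      set a := (der.getD (i - start) (0, 0)).1
      set b := (der.getD (i - start) (0, 0)).2
      have hla : pts.getD a 31671 < table.N := hlt a (by omega)
      have hlb : pts.getD b 31671 < table.N := hlt b (by omega)
      have e : p = hom (dp ⟨_, hla⟩) ⟨_, hlb⟩ := Fin.ext (by
        rw [dp_of_half (p := ⟨_, hla⟩) hh, el_img (fullWord_lt hh)]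
        exact hp.trans (Nat.eq_of_beq_eq_true he).symm)
      rw [e]
      exact hP _ _ (ih a (by omega) (by omega) _ rfl) (ih b (by omega) (by omega) _ rfl)
  intro x hx
  obtain ⟨hi, he⟩ := hix x hx
  refine hpts _ hi (gpt x) ?_
  rw [gpt_val hx, Nat.eq_of_beq_eq_true he]
  rw [List.getD_eq_getElem _ _ (show x < genPts.length from hx),
    List.getD_eq_getElem _ _ (show x < genPts.length from hx)]

theorem bound0 : (List.range (clos0Start + clos0Der.length)).all
    (fun i => Nat.blt (clos0Pts.getD i 31671) 31671) = true := by decide +kernel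

theorem bound1 : (List.range (clos1Start + clos1Der.length)).all
    (fun i => Nat.blt (clos1Pts.getD i 31671) 31671) = true := by decide +kernel

theorem r0_lt : (0 : ℕ) < table.N := by rw [N_eq]; norm_num

theorem r1_lt : (15 : ℕ) < table.N := by rw [N_eq]; norm_num

/-- An element fixing the 324 points and one representative fixes everything derived from them. -/
theorem fix_of_base {k : Fi23} (hk : ∀ i, hom k (uu i) = uu i) (h0 : hom k ⟨0, r0_lt⟩ = ⟨0, r0_lt⟩)
    (hg : ∀ w ∈ gensW, hom k (hom (el w) ⟨0, r0_lt⟩) = hom (el w) ⟨0, r0_lt⟩) : k = 1 := by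
  refine eq_one_of_fix (clos_spec clos0_ok bound0 r0_lt (fun v => hom k v = v) ?_ hk h0 hg)
  intro a b ha hb
  have h := congrArg (fun g => hom g b) (comm_of_fix ha).eq
  simp only [map_mul, Equiv.Perm.mul_apply, hb] at h
  exact h

theorem sigPass_fix {k : Fi23} (hk : ∀ i, hom k (uu i) = uu i) {v : Fin table.N} (hv : sigPass v = true) :
    sigPass (hom k v : Fin table.N) = true := by
  refine List.all_eq_true.2 fun s hs => ?_
  have hs' : s < 324 := (show ∀ s ∈ sigIx, s < 324 by decide) s hs
  have h := Nat.eq_of_beq_eq_true (List.all_eq_true.1 hv s hs)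
  rw [runL_word (uWord_lt ⟨s, hs'⟩) v, ← dp_uu] at h
  refine Nat.beq_eq.mpr ?_
  rw [runL_word (uWord_lt ⟨s, hs'⟩) (hom k v), ← dp_uu]
  have h2 := congrArg (fun g => hom g v) (comm_of_fix (hk ⟨s, hs'⟩)).eq
  simp only [map_mul, Equiv.Perm.mul_apply, (Fin.ext h : hom (dp (uu ⟨s, hs'⟩)) v = v)] at h2
  exact congrArg Fin.val h2.symm

theorem sig_three {v : Fin table.N} (h : sigPass v = true) : (v : ℕ) ∈ threePts := by
  have key : ∀ {s n : ℕ}, sigK s n = true → s ≤ v.1 → v.1 < s + n → (v : ℕ) ∈ threePts := by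
    intro s n hK h1 h2
    have h3 := List.all_eq_true.1 hK (v.1 - s) (List.mem_range.2 (by omega))
    rw [show s + (v.1 - s) = v.1 by omega, h] at h3
    simpa using h3
  have hv := v.2
  have hN := N_eq
  rcases lt_or_ge v.1 16000 with h1 | h1
  · exact key sig0 (Nat.zero_le _) (by omega)
  exact key sig1 h1 (by omega)

theorem pow_fix {g : Fi23} {v : Fin table.N} (h : hom g v = v) (n : ℕ) : hom (g ^ n) v = v := by
  induction n with
  | zero => rw [pow_zero, map_one, Equiv.Perm.one_apply]
  | succ n ih => rw [pow_succ, map_mul, Equiv.Perm.mul_apply, h, ih]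

theorem six_fix {k : Fi23} (hk : ∀ i, hom k (uu i) = uu i) :
    hom (k ^ 6) ⟨0, r0_lt⟩ = ⟨0, r0_lt⟩ := by
  have hs : ∀ n : ℕ, sigPass (hom (k ^ n) ⟨0, r0_lt⟩ : Fin table.N) = true := fun n =>
    sigPass_fix (fun i => pow_fix (hk i) n) (v := ⟨0, r0_lt⟩) root_sig
  let F : Fin 4 → Fin 3 := fun n =>
    ⟨threePts.idxOf ((hom (k ^ (n : ℕ)) ⟨0, r0_lt⟩ : Fin table.N) : ℕ),
      three_len ▸ List.idxOf_lt_length_iff.2 (sig_three (hs n))⟩
  obtain ⟨a, b, hne, he⟩ := Fintype.exists_ne_map_eq_of_card_lt F (by simp)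
  have e : hom (k ^ (a : ℕ)) ⟨0, r0_lt⟩ = hom (k ^ (b : ℕ)) ⟨0, r0_lt⟩ :=
    Fin.ext ((List.idxOf_inj (sig_three (hs a))).1 (congrArg Fin.val he))
  have key : ∀ a b : ℕ, a < b → b < 4 → hom (k ^ a) ⟨0, r0_lt⟩ = hom (k ^ b) ⟨0, r0_lt⟩ →
      hom (k ^ 6) ⟨0, r0_lt⟩ = ⟨0, r0_lt⟩ := by
    intro a b hab hb e
    rw [show b = a + (b - a) by omega, pow_add, map_mul, Equiv.Perm.mul_apply] at e
    have hd := ((hom (k ^ a)).injective e).symm
    obtain ⟨q, hq⟩ : (b - a) ∣ 6 := by
      rcases (show b - a = 1 ∨ b - a = 2 ∨ b - a = 3 by omega) with h | h | h <;> rw [h] <;> decide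
    rw [hq, pow_mul]
    exact pow_fix hd q
  rcases lt_or_gt_of_ne (fun h => hne (Fin.ext h)) with h | h
  · exact key _ _ h b.2 e
  · exact key _ _ h a.2 e.symm

theorem pow_six_eq_one {k : Fi23} (hk : ∀ i, hom k (uu i) = uu i) : k ^ 6 = 1 := by
  refine fix_of_base (fun i => pow_fix (hk i) 6) (six_fix hk) fun w hw => ?_
  have hc : ∀ i, hom ((el w)⁻¹ * k * el w) (uu i) = uu i := by
    intro i
    obtain ⟨j, hj⟩ := gens_mem hw i
    rw [map_mul, map_mul, Equiv.Perm.mul_apply, Equiv.Perm.mul_apply, hj, hk, ← hj, hom_inv_apply]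
  have h := six_fix hc
  rw [show ((el w)⁻¹ * k * el w) ^ 6 = (el w)⁻¹ * k ^ 6 * el w from by
    simpa using conj_pow (i := 6) (a := (el w)⁻¹) (b := k), map_mul, map_mul, Equiv.Perm.mul_apply,
    Equiv.Perm.mul_apply, map_inv, Equiv.Perm.inv_def, Equiv.symm_apply_eq] at h
  exact h

theorem exponent {g : Fi23} (hg : g ∈ Hs) : g ^ 41472 = 1 := by
  choose f hf using hg
  have hinj : Function.Injective f := fun a b e => uu_inj ((hom g).injective (by rw [hf, hf, e]))
  have hT : ∀ i j, f (TT i j) = TT (f i) (f j) := by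
    intro i j
    refine uu_inj ?_
    rw [← hf, ← TT_spec, ← TT_spec, ← hf i, ← conj_dp, map_mul, map_mul, Equiv.Perm.mul_apply,
      Equiv.Perm.mul_apply, ← hf j, hom_inv_apply]
  have hid := plan.iterate_eq hinj hT
  have hpow : ∀ n i, hom (g ^ n) (uu i) = uu (f^[n] i) := by
    intro n
    induction n with
    | zero => intro i; rw [pow_zero, map_one, Equiv.Perm.one_apply]; rfl
    | succ n ih => intro i; rw [pow_succ, map_mul, Equiv.Perm.mul_apply, hf, ih, Function.iterate_succ_apply]
  rw [show 41472 = 6912 * 6 from rfl, pow_mul]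
  exact pow_six_eq_one fun i => by rw [hpow, hid]; rfl

theorem fi23_finite : Finite Fi23 := finite

theorem Hs_solvable : Group.IsSolvable Hs := by
  have := fi23_finite
  have hp : ∀ p : ℕ, p.Prime → p ∣ Nat.card Hs → p = 2 ∨ p = 3 := by
    intro p hp hdvd
    have := Fact.mk hp
    obtain ⟨x, hx⟩ := exists_prime_orderOf_dvd_card' p hdvd
    have h1 : p ∣ 2 ^ 9 * 3 ^ 4 := hx ▸ orderOf_dvd_of_pow_eq_one (Subtype.ext (by
      rw [SubgroupClass.coe_pow, show 2 ^ 9 * 3 ^ 4 = 41472 from rfl]; exact exponent x.2))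
    rcases hp.dvd_mul.1 h1 with h | h
    · exact Or.inl ((Nat.prime_dvd_prime_iff_eq hp Nat.prime_two).1 (hp.dvd_of_dvd_pow h))
    · exact Or.inr ((Nat.prime_dvd_prime_iff_eq hp Nat.prime_three).1 (hp.dvd_of_dvd_pow h))
  have h0 : Nat.card Hs ≠ 0 := Nat.card_pos.ne'
  obtain ⟨a, m, hm, e⟩ := Nat.exists_eq_pow_mul_and_not_dvd h0 2 (by norm_num)
  obtain ⟨b, m', hm', e'⟩ := Nat.exists_eq_pow_mul_and_not_dvd
    (show m ≠ 0 by rintro rfl; exact h0 (by simpa using e)) 3 (by norm_num)
  have h1 : m' = 1 := by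
    by_contra hne
    obtain ⟨p, hpp, hpd⟩ := Nat.exists_prime_and_dvd hne
    have hpm : p ∣ m := e' ▸ hpd.mul_left _
    rcases hp p hpp (e ▸ hpm.mul_left _) with rfl | rfl
    · exact hm hpm
    · exact hm' hpd
  subst h1
  rw [mul_one] at e'
  subst e'
  exact Cfsg.Agent.S0144.isSolvable 2 3 Nat.prime_two Nat.prime_three _ Hs rfl a b e

theorem not_comm : ¬ ∀ a b : Fi23, a * b = b * a := by
  intro hab
  have h2 := congrArg (fun q => ((hom q (gpt 0) : Fin table.N) : ℕ)) (hab (coding.gen 0) (coding.gen 1))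
  rw [show coding.gen 0 * coding.gen 1 = el [1, 0] from by show _ = 1 * coding.gen 0 * coding.gen 1; rw [one_mul],
    show coding.gen 1 * coding.gen 0 = el [0, 1] from by show _ = 1 * coding.gen 1 * coding.gen 0; rw [one_mul],
    el_img (by decide), el_img (by decide), gpt_val (by norm_num)] at h2
  revert h2
  decide +kernel

theorem forest_ok (v : Fin table.N) : forestPt v = true := by
  have key : ∀ {s n : ℕ}, forestK s n = true → s ≤ v.1 → v.1 < s + n → forestPt v = true := by
    intro s n h h1 h2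
    have := List.all_eq_true.1 h (v.1 - s) (List.mem_range.2 (by omega))
    rwa [show s + (v.1 - s) = v.1 by omega] at this
  have hv := v.2
  have hN := N_eq
  rcases lt_or_ge v.1 8000 with h1 | h1
  · exact key forest0 (Nat.zero_le _) (by omega)
  rcases lt_or_ge v.1 16000 with h2 | h2
  · exact key forest1 h1 (by omega)
  rcases lt_or_ge v.1 24000 with h3 | h3
  · exact key forest2 h2 (by omega)
  exact key forest3 h3 (by omega)

theorem reach {v : Fin table.N} (hv : ∀ i, uu i ≠ v) :
    ∃ h ∈ Hs, hom h v = ⟨0, r0_lt⟩ ∨ hom h v = ⟨15, r1_lt⟩ := by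
  induction hn : fRank v using Nat.strong_induction_on generalizing v with
  | _ n ih =>
    have hnb : Nat.testBit uBits v = false := Bool.eq_false_iff.2 fun e => by
      obtain ⟨i, hi⟩ := mem_bits.1 e
      exact hv i (Fin.ext hi)
    have h := forest_ok v
    rw [forestPt, hnb, Bool.false_or] at h
    by_cases h0 : fRank v = 0
    · rw [Nat.beq_eq.mpr h0, cond_true] at h
      have hm : (v : ℕ) = 0 ∨ (v : ℕ) = 15 := by simpa [rootPts] using h
      refine ⟨1, one_mem _, ?_⟩
      rw [map_one, Equiv.Perm.one_apply]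
      exact hm.imp (fun e => Fin.ext e) (fun e => Fin.ext e)
    · rw [Bool.eq_false_iff.2 (fun e => h0 (Nat.eq_of_beq_eq_true e)), cond_false] at h
      simp only [Bool.and_eq_true] at h
      obtain ⟨⟨hr, hi⟩, he⟩ := h
      set w := gensW.getD (Nat.mod (Nat.shiftRight (forestU.get 31 v) 12) 16) [] with hw
      have hwm : w ∈ gensW := by
        rw [hw, List.getD_eq_getElem _ _ (blt_iff.1 hi)]
        exact List.getElem_mem _
      rw [runL_word (gens_lt hwm) v] at he
      have hp := Nat.eq_of_beq_eq_true he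
      obtain ⟨h', hh', e⟩ := ih (fRank (hom (el w) v : Fin table.N))
        (by rw [hp, ← hn]; exact blt_iff.1 hr) (v := hom (el w) v) (fun i e => by
          obtain ⟨j, hj⟩ := Hs.inv_mem (gens_mem hwm) i
          rw [e, hom_inv_apply] at hj
          exact hv j hj.symm) rfl
      exact ⟨h' * el w, mul_mem hh' (gens_mem hwm), by rwa [map_mul, Equiv.Perm.mul_apply]⟩

theorem uu_ne_zero (i : Fin 324) : uu i ≠ ⟨0, r0_lt⟩ := fun e => by
  have : Nat.testBit uBits 0 = true := mem_bits.2 ⟨i, congrArg Fin.val e⟩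
  revert this
  decide +kernel

theorem Hs_ne_top : Hs ≠ ⊤ := by
  intro e
  obtain ⟨g, hg⟩ := transitive (uu 0)
  obtain ⟨j, hj⟩ := (e ▸ Subgroup.mem_top g⁻¹ : g⁻¹ ∈ Hs) 0
  rw [← hg, hom_inv_apply] at hj
  exact uu_ne_zero j hj.symm

theorem Hs_coatom : IsCoatom Hs := by
  refine ⟨Hs_ne_top, fun K hK => ?_⟩
  obtain ⟨g, hgK, hgH⟩ := SetLike.exists_of_lt hK
  obtain ⟨i, hi⟩ : ∃ i, ∀ j, hom g (uu i) ≠ uu j := by
    by_contra hcon
    push Not at hcon
    exact hgH hcon
  let P : Fin table.N → Prop := fun v => dp v ∈ K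
  have hP : ∀ a b, P a → P b → P (hom (dp a) b) := fun a b ha hb => by
    show dp (hom (dp a) b) ∈ K
    rw [← conj_dp]
    exact mul_mem (mul_mem ha hb) (inv_mem ha)
  have hmove : ∀ h ∈ K, ∀ v, P v → P (hom h v) := fun h hh v hv => by
    show dp (hom h v) ∈ K
    rw [← conj_dp]
    exact mul_mem (mul_mem hh hv) (inv_mem hh)
  have hu : ∀ j, P (uu j) := fun j => hK.le (dp_uu_mem j)
  obtain ⟨h, hh, hroot⟩ := reach (v := hom g (uu i)) (fun j e => hi j e.symm)
  have hPr := hmove h (hK.le hh) _ (hmove g hgK _ (hu i))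
  have hgen : ∀ x < 10, P (gpt x) := by
    rcases hroot with e | e <;> rw [e] at hPr
    · exact clos_spec clos0_ok bound0 r0_lt P hP hu hPr fun w hw => hmove _ (hK.le (gens_mem hw)) _ hPr
    · exact clos_spec clos1_ok bound1 r1_lt P hP hu hPr fun w hw => hmove _ (hK.le (gens_mem hw)) _ hPr
  refine eq_top_iff.2 (sub_all.symm.le.trans ((Subgroup.closure_le _).2 ?_))
  rintro _ ⟨x, hx, rfl⟩
  have hx' : x < 10 := (show ∀ y ∈ [0, 1, 2, 3, 4, 5, 6, 7, 8, 9], y < 10 by decide) x (by simpa using hx)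
  rw [SetLike.mem_coe, gen_eq_dp x hx']
  exact hgen x hx'

/-- A word stands for an element of the derived subgroup of a given step. -/
def Good (k : ℕ) (w : List ℕ) : Prop :=
  (∀ x ∈ w, x < 10) ∧ ∃ e : Hs, e ∈ derivedSeries Hs k ∧ (e : Fi23) = el w

theorem sameW_spec {A B : List ℕ} (hA : ∀ x ∈ A, x < 10) (hB : ∀ x ∈ B, x < 10) (h : sameW A B = true) :
    el A = el B := by
  refine eq_of_sameK hA hB (List.all_eq_true.2 fun p hp => ?_)
  have hp' : p < table.N := (show ∀ p ∈ genPts, p < table.N by decide) p hp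
  have h' := List.all_eq_true.1 h p hp
  rwa [runL_word hA ⟨p, hp'⟩, runL_word hB ⟨p, hp'⟩, el_img hA, el_img hB] at h'

theorem mem_getD {α : Type*} {L : List α} {i : ℕ} (hi : i < L.length) (d : α) : L.getD i d ∈ L := by
  rw [List.getD_eq_getElem _ _ hi]
  exact List.getElem_mem _

theorem level_step {k : ℕ} {prev : List (List ℕ)} {cur : List (List ℕ × Bool × ℕ × ℕ)}
    (h : levelK prev cur = true) (hprev : ∀ w ∈ prev, Good k w) : ∀ w ∈ levelWords cur, Good (k + 1) w := by
  have main : ∀ m < cur.length, Good (k + 1) (cur.getD m ([], false, 0, 0)).1 := by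
    intro m
    induction m using Nat.strong_induction_on with
    | _ m ih =>
      intro hm
      have h1 := List.all_eq_true.1 h m (List.mem_range.2 hm)
      generalize hE : cur.getD m ([], false, 0, 0) = E at h1 ⊢
      obtain ⟨W, c, a, b⟩ := E
      simp only [Bool.and_eq_true, List.all_eq_true, Nat.blt_eq] at h1
      obtain ⟨hW, h2⟩ := h1
      cases c with
      | true =>
        simp only [cond_true, Bool.and_eq_true, Nat.blt_eq] at h2
        obtain ⟨⟨ha, hb⟩, hs⟩ := h2
        obtain ⟨hS, e, he, hew⟩ := ih a ha (ha.trans hm)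
        have hG := mem_getD hb []
        have hlt : ∀ x ∈ (gensW.getD b []).reverse ++ (cur.getD a ([], false, 0, 0)).1 ++ gensW.getD b [],
            x < 10 := by
          intro x hx
          simp only [List.mem_append, List.mem_reverse] at hx
          rcases hx with (hx | hx) | hx
          exacts [gens_lt hG x hx, hS x hx, gens_lt hG x hx]
        have heq := sameW_spec hlt hW hs
        rw [el_append, el_append, el_reverse (gens_lt hG)] at heq
        refine ⟨hW, _, (derivedSeries_normal (G := Hs) (k + 1)).conj_mem e he ⟨_, gens_mem hG⟩, ?_⟩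
        show el (gensW.getD b []) * (e : Fi23) * (el (gensW.getD b []))⁻¹ = el W
        rw [hew, ← heq, mul_assoc]
      | false =>
        simp only [cond_false, Bool.and_eq_true, Nat.blt_eq] at h2
        obtain ⟨⟨ha, hb⟩, hs⟩ := h2
        obtain ⟨hA, ea, hea, hwa⟩ := hprev _ (mem_getD ha [])
        obtain ⟨hB, eb, heb, hwb⟩ := hprev _ (mem_getD hb [])
        have hlt : ∀ x ∈ (prev.getD a []).reverse ++ (prev.getD b []).reverse ++ prev.getD a [] ++
            prev.getD b [], x < 10 := by
          intro x hx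
          simp only [List.mem_append, List.mem_reverse] at hx
          rcases hx with ((hx | hx) | hx) | hx
          exacts [hA x hx, hB x hx, hA x hx, hB x hx]
        have heq := sameW_spec hlt hW hs
        rw [el_append, el_append, el_append, el_reverse hA, el_reverse hB] at heq
        refine ⟨hW, ⁅eb, ea⁆, Subgroup.commutator_mem_commutator heb hea, ?_⟩
        rw [commutatorElement_def]
        push_cast
        rw [hwa, hwb, ← heq]
        group
  intro w hw
  obtain ⟨E, hE, rfl⟩ := List.mem_map.1 hw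
  obtain ⟨m, hm, rfl⟩ := List.mem_iff_getElem.1 hE
  rw [← List.getD_eq_getElem _ ([], false, 0, 0) hm]
  exact main m hm

theorem levelAt_ok : ∀ k < derLevels.length, levelAt k = true := by
  intro k hk
  rw [show derLevels.length = 9 from rfl] at hk
  interval_cases k
  exacts [level0, level1, level2, level3, level4, level5, level6, level7, level8]

theorem gens_good : ∀ w ∈ gensW, Good 0 w := fun w hw =>
  ⟨gens_lt hw, ⟨el w, gens_mem hw⟩, by rw [derivedSeries_zero]; exact Subgroup.mem_top _, rfl⟩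

theorem level_good : ∀ k < derLevels.length, ∀ w ∈ levelWords (derLevels.getD k []), Good (k + 1) w := by
  intro k
  induction k using Nat.strong_induction_on with
  | _ k ih =>
    intro hk
    have h := levelAt_ok k hk
    cases k with
    | zero => exact level_step h gens_good
    | succ j => exact level_step h (ih j (Nat.lt_succ_self j) (by omega))

theorem derived_nine_ne_bot : derivedSeries Hs 9 ≠ ⊥ := by
  intro hbot
  have h := last_ok
  rw [lastK, Bool.and_eq_true] at h
  have hlen := Nat.eq_of_beq_eq_true h.1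
  have h2 := h.2
  have hgood := level_good 8 (by omega)
  generalize derLevels.getD 8 [] = L at h2 hgood
  cases L with
  | nil => exact Bool.false_ne_true h2
  | cons E t =>
    obtain ⟨hW, e, he, hew⟩ := hgood E.1 (List.mem_cons_self)
    rw [hbot, Subgroup.mem_bot] at he
    obtain ⟨p, hp, hne⟩ := List.any_eq_true.1 h2
    have hp' : p < table.N := (show ∀ p ∈ genPts, p < table.N by decide) p hp
    have h3 : (hom (el E.1) ⟨p, hp'⟩ : Fin table.N) = ⟨p, hp'⟩ := by
      rw [← hew, he, OneMemClass.coe_one, map_one, Equiv.Perm.one_apply]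
    have h4 : table.imgW E.1 p = p := by rw [← el_img hW ⟨p, hp'⟩, h3]
    rw [Nat.beq_eq.mpr h4] at hne
    exact Bool.false_ne_true hne

theorem derived_ne : derivedSeries Hs 10 ≠ derivedSeries Hs 9 := by
  intro e
  obtain ⟨n, hn⟩ := Hs_solvable
  have hall : ∀ j, derivedSeries Hs (9 + j) = derivedSeries Hs 9 := by
    intro j
    induction j with
    | zero => rfl
    | succ j ih =>
      rw [← add_assoc, derivedSeries_succ, ih, ← derivedSeries_succ]
      exact e
  exact derived_nine_ne_bot (eq_bot_iff.2 ((hall n).symm.le.trans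
    ((derivedSeries_antitone (G := Hs) (Nat.le_add_left n 9)).trans hn.le)))

theorem center_bot : Subgroup.centralizer ((⊤ : Subgroup Fi23) : Set Fi23) = ⊥ := by
  have := isSimple
  rw [Subgroup.coe_top, Subgroup.centralizer_univ]
  rcases IsSimpleGroup.eq_bot_or_eq_top_of_normal (Subgroup.center Fi23) inferInstance with e | e
  · exact e
  · exact absurd (fun a b : Fi23 => (Subgroup.mem_center_iff.1
      (e ▸ Subgroup.mem_top b : b ∈ Subgroup.center Fi23)) a) not_comm

theorem main :
    ∃ (G : Type) (_ : Group G) (_ : Finite G) (S H : Subgroup G), S.Normal ∧ IsSimpleGroup S ∧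
      ¬ IsMulCommutative S ∧ Subgroup.centralizer (S : Set G) = ⊥ ∧ IsCoatom H ∧
      derivedSeries H 10 ≠ derivedSeries H 9 := by
  have := isSimple
  have : Nontrivial (⊤ : Subgroup Fi23) := Subgroup.topEquiv.toEquiv.nontrivial
  refine ⟨Fi23, inferInstance, finite, ⊤, Hs, inferInstance,
    IsSimpleGroup.isSimpleGroup_of_surjective (Subgroup.topEquiv (G := Fi23)).symm.toMonoidHom
      (fun y => ⟨(y : Fi23), Subtype.ext rfl⟩), fun hc => not_comm fun a b => ?_, center_bot, Hs_coatom, derived_ne⟩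
  exact congrArg Subtype.val (hc.is_comm.comm ⟨a, Subgroup.mem_top a⟩ ⟨b, Subgroup.mem_top b⟩)

end CfsgLib.Sporadic.CosetCert.Fi23P.Sol
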